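import Mathlib
import Cfsg.Agent.S0338
import Cfsg.Agent.S0885
import Cfsg.Agent.S0738
import Cfsg.Agent.S1147
import Cfsg.Agent.S1230
import Cfsg.Agent.Lib.Helper6.SLEquiv
import Cfsg.Agent.Lib.Helper96.TIC.Free

set_option autoImplicit false

namespace Cfsg.Agent.Lib.Helper96.TIC

open Subgroup MulAction

theorem endgame {G : Type*} [Group G] [Finite G]
    (hTI : ∀ x : G, Cfsg.IsTISubset (Subgroup.centralizer ({x} : Set G) : Set G))
    (t : G) (ht : orderOf t = 2) (M : Subgroup G)
    (hM : M = Subgroup.normalizer (Subgroup.centralizer ({t} : Set G) : Set G))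
    (hZ : Cfsg.IsZassenhausGroup G (G ⧸ M))
    (hcc : ∀ h ∈ Subgroup.centralizer ({t} : Set G), h ≠ 1 →
      Subgroup.centralizer ({h} : Set G) ≤ Subgroup.centralizer ({t} : Set G))
    (hreg : ∀ c d : G ⧸ M, c ≠ ((1 : G) : G ⧸ M) → d ≠ ((1 : G) : G ⧸ M) →
      ∃! u : Subgroup.centralizer ({t} : Set G), (u : G) • c = d)
    (hodd : ∀ b : G ⧸ M, b ≠ ((1 : G) : G ⧸ M) →
      Odd (Nat.card ↥(MulAction.stabilizer G ((1 : G) : G ⧸ M) ⊓ MulAction.stabilizer G b)))
    (hconj : ∀ s : G, orderOf s = 2 → IsConj t s) :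
    ∃ n : ℕ, 2 ≤ n ∧
      Nonempty (G ≃* Matrix.ProjectiveSpecialLinearGroup (Fin 2) (GaloisField 2 n)) := by
  classical
  haveI : Fact (Nat.Prime 2) := ⟨Nat.prime_two⟩
  haveI : Fintype (G ⧸ M) := Fintype.ofFinite _
  set H : Subgroup G := Subgroup.centralizer ({t} : Set G) with hH
  set a : G ⧸ M := ((1 : G) : G ⧸ M) with ha
  have hstab : stabilizer G a = M := MulAction.stabilizer_quotient M
  have hmemH : ∀ x, x ∈ H ↔ x * t = t * x := fun x => Subgroup.mem_centralizer_singleton_iff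
  have htH : t ∈ H := (hmemH t).mpr rfl
  have ht1 : t ≠ 1 := by
    intro h
    rw [h, orderOf_one] at ht
    omega
  have hHM : H ≤ M := by rw [hM]; exact Subgroup.le_normalizer
  have hMn : ∀ m ∈ M, ∀ u, u ∈ H ↔ m * u * m⁻¹ ∈ H := by
    intro m hm
    rw [hM] at hm
    exact Subgroup.mem_normalizer_iff.mp hm
  have hHa : H ≤ stabilizer G a := by rw [hstab]; exact hHM
  have hZ' := hZ
  obtain ⟨hfaith, h2t, h3, ⟨g0, hg01, a', b', hab', hga, hgb⟩, hnoreg⟩ := hZ'
  obtain ⟨b, hb⟩ : ∃ b, b ≠ a := by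
    by_cases h : a' = a
    · exact ⟨b', fun hb => hab' (h.trans hb.symm)⟩
    · exact ⟨a', h⟩
  have hab : a ≠ b := hb.symm
  have hHfix : ∀ u ∈ H, u ≠ 1 → ∀ c : G ⧸ M, u • c = c → c = a := by
    intro u hu hu1 c hc
    by_contra hca
    obtain ⟨w, -, hw⟩ := hreg c c hca hca
    have e1 := hw ⟨u, hu⟩ hc
    have e2 := hw 1 (one_smul _ _)
    exact hu1 (congrArg Subtype.val (e1.trans e2.symm))
  have hcard : Nat.card H + 1 = Fintype.card (G ⧸ M) := by
    have hne : ∀ u : H, (u : G) • b ≠ a := by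
      intro u hu
      apply hb
      have h1 : (u : G) • a = a := hHa u.2
      rw [← h1] at hu
      exact smul_left_cancel _ hu
    have hbij : Function.Bijective (fun u : H => (⟨(u : G) • b, hne u⟩ : {c : G ⧸ M // c ≠ a})) := by
      constructor
      · intro u v huv
        have huv' : (u : G) • b = (v : G) • b := congrArg Subtype.val huv
        obtain ⟨w, -, hw⟩ := hreg b ((v : G) • b) hb (hne v)
        exact (hw u huv').trans (hw v rfl).symm
      · rintro ⟨c, hc⟩
        obtain ⟨w, hw, -⟩ := hreg b c hb hc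
        exact ⟨w, Subtype.ext hw⟩
    have h1 : Nat.card H = Nat.card {c : G ⧸ M // c ≠ a} := Nat.card_congr (Equiv.ofBijective _ hbij)
    have h2 : Nat.card {c : G ⧸ M // c ≠ a} = Fintype.card (G ⧸ M) - 1 := by
      rw [Nat.card_eq_fintype_card, Fintype.card_subtype_compl (fun c => c = a),
        Fintype.card_subtype_eq]
    have h3 : 0 < Fintype.card (G ⧸ M) := Fintype.card_pos_iff.mpr ⟨a⟩
    omega
  set D : Subgroup G := stabilizer G a ⊓ stabilizer G b with hD
  have hDM : D ≤ M := by rw [← hstab]; exact inf_le_left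
  obtain ⟨d0, hd0D, hd01⟩ : ∃ d ∈ D, d ≠ 1 := by
    obtain ⟨x, hxa, hxb⟩ := (is_two_pretransitive_iff.mp h2t) hab' hab
    refine ⟨x * g0 * x⁻¹, Subgroup.mem_inf.mpr ⟨?_, ?_⟩, fun h => hg01 (conj_eq_one_iff.mp h)⟩
    · rw [mem_stabilizer_iff, mul_smul, mul_smul, ← hxa, inv_smul_smul, hga]
    · rw [mem_stabilizer_iff, mul_smul, mul_smul, ← hxb, inv_smul_smul, hgb]
  have hDH : ∀ d ∈ D, d ∈ H → d = 1 := by
    intro d hd hdH
    by_contra hd1
    exact hb (hHfix d hdH hd1 b hd.2)
  have hfree : ∀ d ∈ D, ∀ x ∈ H, x ≠ 1 → d * x * d⁻¹ = x → d = 1 := by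
    intro d hd x hx hx1 hdx
    apply hDH d hd
    apply hcc x hx hx1
    rw [Subgroup.mem_centralizer_singleton_iff]
    rw [mul_inv_eq_iff_eq_mul] at hdx
    exact hdx
  have hDnH : ∀ d ∈ D, ∀ x ∈ H, d * x * d⁻¹ ∈ H := fun d hd x hx => (hMn d (hDM hd) x).mp hx
  have hdvdH : Nat.card D ∣ Nat.card H - 1 := free_dvd D H hDnH hfree
  have hD2 : 2 ≤ Nat.card D := by
    have : Nontrivial D := ⟨⟨⟨d0, hd0D⟩, 1, fun h => hd01 (congrArg Subtype.val h)⟩⟩
    exact Finite.one_lt_card
  have hH2' : 2 ≤ Nat.card H := by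
    have : Nontrivial H := ⟨⟨⟨t, htH⟩, 1, fun h => ht1 (congrArg Subtype.val h)⟩⟩
    exact Finite.one_lt_card
  have hH3 : 3 ≤ Nat.card H := by
    have := Nat.le_of_dvd (by omega) hdvdH
    omega
  have hevenH : Even (Nat.card H) := by
    have h1 : orderOf t ∣ Nat.card H := by
      have := orderOf_dvd_natCard (⟨t, htH⟩ : H)
      rwa [Subgroup.orderOf_mk] at this
    rw [ht] at h1
    exact (even_iff_two_dvd).mpr h1
  have hoddΩ : Odd (Fintype.card (G ⧸ M)) := by
    rw [← hcard]
    exact hevenH.add_one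
  haveI hsimple : IsSimpleGroup G := Cfsg.Agent.S0338.result hZ hoddΩ
  have hFn : (H.subgroupOf (stabilizer G a)).Normal := by
    rw [hstab, hM]
    exact Subgroup.normal_in_normalizer
  rcases Cfsg.Agent.S0885.result hZ hab (Nat.card H) (Nat.card D) hcard.symm rfl (hodd b hb) H hHa
    hcard hHfix with hsmall | ⟨hH2, ⟨u, v, huv⟩, -⟩
  · -- elementary abelian case
    have hd : Fintype.card (G ⧸ M) - 2 ≤ 2 * Nat.card D := by omega
    obtain ⟨hcomm, p, f, hp, hexp, -⟩ := Cfsg.Agent.S0738.result hZ hab hd H hHa hFn hreg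
    have hp2 : p = 2 := by
      have h1 : orderOf t ∣ p := orderOf_dvd_of_pow_eq_one (hexp t htH)
      rw [ht] at h1
      exact ((Nat.prime_dvd_prime_iff_eq Nat.prime_two hp).mp h1).symm
    subst hp2
    have hHp : IsPGroup 2 H := by
      intro x
      exact ⟨1, by
        rw [pow_one]
        exact Subtype.ext (hexp x x.2)⟩
    obtain ⟨T, hT⟩ := hHp.exists_le_sylow
    have hTH : (T : Subgroup G) = H := by
      apply le_antisymm _ hT
      haveI : Nontrivial (T : Subgroup G) :=
        ⟨⟨⟨t, hT htH⟩, 1, fun h => ht1 (congrArg Subtype.val h)⟩⟩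
      haveI := T.isPGroup'.center_nontrivial
      obtain ⟨w, hw1⟩ := exists_ne (1 : Subgroup.center (T : Subgroup G))
      have hwc : ∀ y : (T : Subgroup G), y * w.1 = w.1 * y := fun y =>
        Subgroup.mem_center_iff.mp w.2 y
      have hw1' : ((w.1 : (T : Subgroup G)) : G) ≠ 1 := by
        intro h
        apply hw1
        exact Subtype.ext (Subtype.ext h)
      have hwH : ((w.1 : (T : Subgroup G)) : G) ∈ H := by
        rw [hmemH]
        exact (congrArg Subtype.val (hwc ⟨t, hT htH⟩)).symm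
      intro y hy
      apply hcc _ hwH hw1'
      rw [Subgroup.mem_centralizer_singleton_iff]
      exact congrArg Subtype.val (hwc ⟨y, hy⟩)
    have hnc : ¬ IsCyclic (T : Subgroup G) := by
      rw [hTH]
      intro hc
      have h1 : Monoid.exponent H = Nat.card H := IsCyclic.exponent_eq_card
      have h2 : Monoid.exponent H ∣ 2 :=
        Monoid.exponent_dvd_of_forall_pow_eq_one (fun x => Subtype.ext (hexp x x.2))
      rw [h1] at h2
      have := Nat.le_of_dvd (by norm_num) h2
      omega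
    have hnn : ¬ (T : Subgroup G).Normal := by
      rw [hTH]
      intro hn
      have h1 : M = ⊤ := by
        rw [hM]
        exact Subgroup.normalizer_eq_top_iff.mpr hn
      obtain ⟨g, hg⟩ := MulAction.exists_smul_eq G a b
      have h2 : g ∈ stabilizer G a := by rw [hstab, h1]; exact Subgroup.mem_top g
      exact hab (h2.symm.trans hg)
    have hC : ∀ s : G, orderOf s = 2 → IsMulCommutative (Subgroup.centralizer ({s} : Set G)) ∧
        ∀ c ∈ Subgroup.centralizer ({s} : Set G), c ^ 2 = 1 := by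
      intro s hs
      obtain ⟨g, hg⟩ := isConj_iff.mp (hconj s hs)
      have hmem : ∀ c ∈ Subgroup.centralizer ({s} : Set G), g⁻¹ * c * g ∈ H := by
        intro c hc
        rw [Subgroup.mem_centralizer_singleton_iff, ← hg] at hc
        rw [hmemH]
        calc g⁻¹ * c * g * t = g⁻¹ * (c * (g * t * g⁻¹)) * g := by group
          _ = g⁻¹ * (g * t * g⁻¹ * c) * g := by rw [hc]
          _ = t * (g⁻¹ * c * g) := by group
      constructor
      · refine ⟨⟨fun x y => Subtype.ext ?_⟩⟩
        have h1 := hcomm.is_comm.comm ⟨_, hmem x x.2⟩ ⟨_, hmem y y.2⟩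
        have h2 : g⁻¹ * x * g * (g⁻¹ * y * g) = g⁻¹ * y * g * (g⁻¹ * x * g) :=
          congrArg Subtype.val h1
        change (x : G) * y = y * x
        calc (x : G) * y = g * (g⁻¹ * x * g * (g⁻¹ * y * g)) * g⁻¹ := by group
          _ = g * (g⁻¹ * y * g * (g⁻¹ * x * g)) * g⁻¹ := by rw [h2]
          _ = y * x := by group
      · intro c hc
        have h1 := hexp _ (hmem c hc)
        calc c ^ 2 = c * c := sq c
          _ = g * ((g⁻¹ * c * g) * (g⁻¹ * c * g)) * g⁻¹ := by group
          _ = 1 := by rw [← sq, h1]; group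
    obtain ⟨F, _, _, hFcard, ⟨e⟩⟩ := Cfsg.Agent.S1230.result T hnc hnn hC
    obtain ⟨k, hk⟩ := IsPGroup.iff_card.mp T.isPGroup'
    have hk' : Nat.card H = 2 ^ k := by rw [← hTH]; exact hk
    have hk2 : 2 ≤ k := by
      by_contra h
      have : k = 0 ∨ k = 1 := by omega
      rcases this with rfl | rfl
      · rw [pow_zero] at hk'; omega
      · rw [pow_one] at hk'; omega
    refine ⟨k, hk2, ?_⟩
    haveI : Fintype (GaloisField 2 k) := Fintype.ofFinite _
    have hcardF : Fintype.card F = Fintype.card (GaloisField 2 k) := by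
      rw [hFcard, hk, ← Nat.card_eq_fintype_card, GaloisField.card 2 k (by omega)]
    exact ⟨e.trans (Cfsg.Agent.Lib.Helper6.pslEquiv (FiniteField.ringEquivOfCardEq hcardF))⟩
  · -- nonabelian 2-group: impossible
    exfalso
    have huv' : (u : G) * v ≠ v * u := fun h => huv (Subtype.ext h)
    have hUn : ∀ h ∈ stabilizer G a, ∀ x ∈ H, h * x * h⁻¹ ∈ H := by
      intro h hh x hx
      rw [hstab] at hh
      exact (hMn h hh x).mp hx
    obtain ⟨n, -, hn1, hΩ, -, hDcard, -⟩ := Cfsg.Agent.S1147.result hZ hab H hHa hUn hreg hH2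
      ⟨u, u.2, v, v.2, huv'⟩
    have hHcard : Nat.card H = 2 ^ (2 * n) := by
      rw [Nat.card_eq_fintype_card] at hΩ
      omega
    have hu1 : (u : G) ≠ 1 := by
      intro h
      apply huv'
      rw [h, one_mul, mul_one]
    set B : Subgroup G := Subgroup.centralizer ({(u : G)} : Set G) with hB
    set Z : Subgroup G := H ⊓ Subgroup.centralizer (H : Set G) with hZdef
    have hBH : B ≤ H := hcc u u.2 hu1
    have hZB : Z ≤ B := by
      intro y hy
      rw [hB, Subgroup.mem_centralizer_singleton_iff]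
      exact (Subgroup.mem_centralizer_iff.mp hy.2 u u.2).symm
    have huB : (u : G) ∈ B := by
      rw [hB, Subgroup.mem_centralizer_singleton_iff]
    have huZ : (u : G) ∉ Z := by
      intro h
      exact huv' (Subgroup.mem_centralizer_iff.mp h.2 v v.2).symm
    have hvB : (v : G) ∉ B := by
      intro h
      rw [hB, Subgroup.mem_centralizer_singleton_iff] at h
      exact huv' h.symm
    have htZ : t ∈ Z := by
      refine Subgroup.mem_inf.mpr ⟨htH, ?_⟩
      rw [Subgroup.mem_centralizer_iff]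
      intro y hy
      exact (hmemH y).mp hy
    have hZlt : Nat.card Z < Nat.card B := by
      exact lt_of_le_of_ne (Subgroup.card_le_of_le hZB)
        (fun h => huZ (by rw [Subgroup.eq_of_le_of_card_ge hZB h.ge]; exact huB))
    have hBlt : Nat.card B < Nat.card H := by
      exact lt_of_le_of_ne (Subgroup.card_le_of_le hBH)
        (fun h => hvB (by rw [Subgroup.eq_of_le_of_card_ge hBH h.ge]; exact v.2))
    have hZ1 : 1 < Nat.card Z := by
      have : Nontrivial Z := ⟨⟨⟨t, htZ⟩, 1, fun h => ht1 (congrArg Subtype.val h)⟩⟩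
      exact Finite.one_lt_card
    obtain ⟨c1, hc1⟩ := IsPGroup.iff_card.mp (hH2.to_le (inf_le_left : Z ≤ H))
    obtain ⟨c2, hc2⟩ := IsPGroup.iff_card.mp (hH2.to_le hBH)
    have hDnZ : ∀ d ∈ D, ∀ x ∈ Z, d * x * d⁻¹ ∈ Z := by
      intro d hd x hx
      refine Subgroup.mem_inf.mpr ⟨hDnH d hd x hx.1, ?_⟩
      rw [Subgroup.mem_centralizer_iff]
      intro y hy
      have hy' : d⁻¹ * y * d ∈ H := by
        have := (hMn d⁻¹ (M.inv_mem (hDM hd)) y).mp hy
        rwa [inv_inv] at this
      have h1 := Subgroup.mem_centralizer_iff.mp hx.2 _ hy'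
      calc y * (d * x * d⁻¹) = d * (d⁻¹ * y * d * x) * d⁻¹ := by group
        _ = d * (x * (d⁻¹ * y * d)) * d⁻¹ := by rw [h1]
        _ = d * x * d⁻¹ * y := by group
    have hDnB : ∀ d ∈ D, ∀ x ∈ B, d * x * d⁻¹ ∈ B := by
      intro d hd x hx
      have hdn : d ∈ Subgroup.normalizer (B : Set G) := by
        by_contra hcon
        exact ht1 (hTI u d hcon t (hZB htZ) (hZB (hDnZ d hd t htZ)))
      exact (Subgroup.mem_normalizer_iff.mp hdn x).mp hx
    have d1 := free_dvd D Z hDnZ (fun d hd x hx => hfree d hd x hx.1)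
    have d2 := free_dvd D B hDnB (fun d hd x hx => hfree d hd x (hBH hx))
    rw [hDcard, hc1] at d1
    rw [hDcard, hc2] at d2
    rw [hc1, hc2] at hZlt
    rw [hc2, hHcard] at hBlt
    rw [hc1] at hZ1
    have e0 : 0 < c1 := by
      rcases Nat.eq_zero_or_pos c1 with h | h
      · rw [h] at hZ1; simp at hZ1
      · exact h
    have e1 : c1 < c2 := (Nat.pow_lt_pow_iff_right (by norm_num)).mp hZlt
    have e2 : c2 < 2 * n := (Nat.pow_lt_pow_iff_right (by norm_num)).mp hBlt
    exact arith e0 e1 e2 d1 d2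

end Cfsg.Agent.Lib.Helper96.TIC
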