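import Cfsg.Agent.Lib.Helper80.CTIDefs
import Cfsg.Agent.S0223
import Cfsg.Agent.S1224
import Cfsg.Agent.S1225

set_option autoImplicit false

namespace Cfsg.Agent.Lib.Helper96.TIC

open Subgroup MulAction Cfsg.Agent.Lib.Helper80.CTI

variable {G : Type*} [Group G] [Finite G] {t : G} {H M : Subgroup G}

/-- the base point -/
abbrev pt (M : Subgroup G) : G ⧸ M := ((1 : G) : G ⧸ M)

omit [Finite G] in
theorem orderOf_conj' (g x : G) : orderOf (g * x * g⁻¹) = orderOf x := by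
  rw [← MulAut.conj_apply]
  exact MulEquiv.orderOf_eq _ _

omit [Finite G] in
theorem mem_iff_fix {x : G} : x ∈ M ↔ x • pt M = pt M := by
  rw [← MulAction.mem_stabilizer_iff, MulAction.stabilizer_quotient]

omit [Finite G] in
theorem ne_one_of_two {s : G} (h2 : orderOf s = 2) : s ≠ 1 := by
  intro h
  rw [h, orderOf_one] at h2
  omega

omit [Finite G] in
theorem inv_of_two {s : G} (h2 : orderOf s = 2) : s⁻¹ = s := by
  have h : s ^ 2 = 1 := by rw [← h2]; exact pow_orderOf_eq_one s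
  rw [inv_eq_iff_mul_eq_one, ← sq]
  exact h

omit [Finite G] in
theorem mul_self_of_two {s : G} (h2 : orderOf s = 2) : s * s = 1 := by
  rw [← sq, ← h2]; exact pow_orderOf_eq_one s

/-- SE: S0223 -/
theorem se (c : Cfg H M t) : Cfsg.IsStronglyEmbedded M := by
  have heven : Even (Nat.card M) := by
    have h1 : orderOf t ∣ Nat.card M := by
      have := orderOf_dvd_natCard (⟨t, c.le c.t_mem⟩ : M)
      rwa [Subgroup.orderOf_mk] at this
    rw [c.ht] at h1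
    exact even_iff_two_dvd.mpr h1
  rw [Cfsg.Agent.S0223.result M c.neT heven]
  constructor
  · intro s hs h2
    exact (c.cen s (c.invol_mem hs h2) (ne_one_of_two h2)).trans c.le
  · intro s hs s' hs' h2 h2' hconj
    obtain ⟨g, hg⟩ := isConj_iff.mp hconj
    refine ⟨g, ?_, hg⟩
    by_contra hgM
    exact ne_one_of_two h2 (c.ti g hgM s (c.invol_mem hs h2) (hg ▸ c.invol_mem hs' h2'))

/-- CONJ: S1225 with u = g t g⁻¹, g ∉ M -/
theorem conj (c : Cfg H M t) (s : G) (hs : orderOf s = 2) : IsConj t s := by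
  obtain ⟨g, hg⟩ : ∃ g, g ∉ M := by
    by_contra h
    push Not at h
    exact c.neT (eq_top_iff.mpr fun x _ => h x)
  have hu : orderOf (g * t * g⁻¹) = 2 := by rw [orderOf_conj', c.ht]
  exact (Cfsg.Agent.S1225.result M (se c) (g * t * g⁻¹) hu (c.conj_t_not_mem hg) t t c.ht
    (c.le c.t_mem) c.ht (c.le c.t_mem)).2 t s c.ht hs

/-- FIXH : Cfg.inter -/
theorem fixH (c : Cfg H M t) {x : G} (hx : x ∈ H) (hx1 : x ≠ 1) {w : G ⧸ M}
    (hw : x • w = w) : w = pt M := by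
  obtain ⟨g, rfl⟩ := QuotientGroup.mk_surjective w
  have h1 : g⁻¹ * x * g ∈ M := by
    have h0 : ((x * g : G) : G ⧸ M) = (g : G ⧸ M) := hw
    rw [QuotientGroup.eq] at h0
    have h2 := M.inv_mem h0
    simpa [mul_assoc] using h2
  by_contra hne
  have hg : g⁻¹ ∉ M := fun h => hne (by
    rw [QuotientGroup.eq]
    simpa using h)
  exact hx1 (c.inter hg hx (by simpa using h1))

/-- INV: S1224, the count is ≥ 1 (t) -/
theorem exists_inv (c : Cfg H M t) {x y : G ⧸ M} (hxy : x ≠ y) :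
    ∃ u : G, orderOf u = 2 ∧ u • x = y := by
  have h := Cfsg.Agent.S1224.result M (se c) x y hxy
  have hpos : 0 < Nat.card {s : G // orderOf s = 2 ∧ s ∈ M} :=
    Nat.card_pos_iff.mpr ⟨⟨⟨t, c.ht, c.le c.t_mem⟩⟩, inferInstance⟩
  rw [← h] at hpos
  obtain ⟨⟨u, hu⟩⟩ := (Nat.card_pos_iff.mp hpos).1
  exact ⟨u, hu⟩

/-- FAC -/
theorem factor (c : Cfg H M t) {b : G ⧸ M} (hb : b ≠ pt M) {x : G} (hx : x ∈ M) :
    ∃ h ∈ H, ∃ d ∈ M, d • b = b ∧ x = h * d := by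
  obtain ⟨u, hu, hub⟩ := exists_inv c (Ne.symm hb)
  have huM : u ∉ M := fun h => hb (by rw [← hub]; exact mem_iff_fix.mp h)
  have hs : orderOf (x * t * x⁻¹) = 2 := by rw [orderOf_conj', c.ht]
  have hsM : x * t * x⁻¹ ∈ M := c.le (c.conj_mem hx c.t_mem)
  obtain ⟨⟨d, hd, hdt⟩, -⟩ := Cfsg.Agent.S1225.result M (se c) u hu huM t (x * t * x⁻¹) c.ht
    (c.le c.t_mem) hs hsM
  obtain ⟨hdM, m, hm, hmd⟩ := hd
  have hmd' : u * m * u⁻¹ = d := hmd
  have hdb : d • b = b := by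
    rw [← hmd', ← hub, mul_smul, mul_smul, inv_smul_smul, mem_iff_fix.mp hm]
  have h1 : d⁻¹ * x ∈ H := by
    rw [c.hH, mem_centralizer_singleton_iff]
    calc d⁻¹ * x * t = d⁻¹ * (x * t * x⁻¹) * x := by group
      _ = d⁻¹ * (d * t * d⁻¹) * x := by rw [hdt]
      _ = t * (d⁻¹ * x) := by group
  refine ⟨d * (d⁻¹ * x) * d⁻¹, c.conj_mem hdM h1, d, hdM, hdb, by group⟩

/-- INVB -/
theorem invert_base (c : Cfg H M t) {b : G ⧸ M} (hb : b ≠ pt M) {u : G} (hu : orderOf u = 2)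
    (hub : u • pt M = b) {d : G} (hd : d ∈ M) (hdb : d • b = b) : u * d * u⁻¹ = d⁻¹ := by
  have hcard := Cfsg.Agent.S1224.result M (se c) (pt M) b (Ne.symm hb)
  have hui := inv_of_two hu
  -- D → involutions of M
  have hinj1 : Function.Injective (fun e : {e : G // e ∈ M ∧ e • b = b} =>
      (⟨e.1 * t * e.1⁻¹, by rw [orderOf_conj', c.ht], c.le (c.conj_mem e.2.1 c.t_mem)⟩ :
        {s : G // orderOf s = 2 ∧ s ∈ M})) := by
    intro e e' hee
    have h0 : e.1 * t * e.1⁻¹ = e'.1 * t * e'.1⁻¹ := congrArg Subtype.val hee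
    have h1 : e'.1⁻¹ * e.1 ∈ H := by
      rw [c.hH, mem_centralizer_singleton_iff]
      calc e'.1⁻¹ * e.1 * t = e'.1⁻¹ * (e.1 * t * e.1⁻¹) * e.1 := by group
        _ = e'.1⁻¹ * (e'.1 * t * e'.1⁻¹) * e.1 := by rw [h0]
        _ = t * (e'.1⁻¹ * e.1) := by group
    have h2 : (e'.1⁻¹ * e.1) • b = b := by
      rw [mul_smul, e.2.2, inv_smul_eq_iff, e'.2.2]
    have h3 : e'.1⁻¹ * e.1 = 1 := by
      by_contra hne
      exact hb (fixH c h1 hne h2)
    apply Subtype.ext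
    exact (inv_mul_eq_one.mp h3).symm
  have hle : Nat.card {e : G // e ∈ M ∧ e • b = b} ≤ Nat.card {i : G // orderOf i = 2 ∧ i • pt M = b} := by
    rw [hcard]
    exact Nat.card_le_card_of_injective _ hinj1
  have hmap : ∀ i : {i : G // orderOf i = 2 ∧ i • pt M = b}, u⁻¹ * i.1 ∈ M ∧ (u⁻¹ * i.1) • b = b := by
    rintro ⟨i, hi2, hib⟩
    constructor
    · change u⁻¹ * i ∈ M
      rw [mem_iff_fix, mul_smul, hib, inv_smul_eq_iff, hub]
    · change (u⁻¹ * i) • b = b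
      have h1 : i • b = pt M := by
        rw [← hib, ← mul_smul, mul_self_of_two hi2, one_smul]
      rw [mul_smul, h1, hui, hub]
  have hinj2 : Function.Injective (fun i : {i : G // orderOf i = 2 ∧ i • pt M = b} =>
      (⟨u⁻¹ * i.1, hmap i⟩ : {e : G // e ∈ M ∧ e • b = b})) := by
    intro i i' hii
    have h0 : u⁻¹ * i.1 = u⁻¹ * i'.1 := congrArg Subtype.val hii
    exact Subtype.ext (mul_left_cancel h0)
  have hbij := hinj2.bijective_of_nat_card_le hle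
  obtain ⟨i, hi⟩ := hbij.2 ⟨d, hd, hdb⟩
  have hi' : u⁻¹ * i.1 = d := congrArg Subtype.val hi
  have hi2 : i.1 = u * d := by rw [← hi']; group
  have h2 : (u * d) * (u * d) = 1 := by
    rw [← hi2]; exact mul_self_of_two i.2.1
  rw [hui]
  calc u * d * u = (u * d) * (u * d) * d⁻¹ := by group
    _ = d⁻¹ := by rw [h2, one_mul]

/-- INVG: transport of INVB -/
theorem invert (c : Cfg H M t) {a b : G ⧸ M} (hab : a ≠ b) {u : G} (hu : orderOf u = 2)
    (hub : u • a = b) {d : G} (hda : d • a = a) (hdb : d • b = b) : u * d * u⁻¹ = d⁻¹ := by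
  obtain ⟨g, hg⟩ := MulAction.exists_smul_eq G (pt M) a
  have hb' : g⁻¹ • b ≠ pt M := by
    intro h
    apply hab
    rw [inv_smul_eq_iff] at h
    rw [h, hg]
  have hu' : orderOf (g⁻¹ * u * g) = 2 := by
    have := orderOf_conj' g⁻¹ u
    rw [inv_inv] at this
    rw [this, hu]
  have h1 : (g⁻¹ * u * g) • pt M = g⁻¹ • b := by
    rw [mul_smul, mul_smul, hg, hub]
  have h2 : g⁻¹ * d * g ∈ M := by
    rw [mem_iff_fix, mul_smul, mul_smul, hg, hda, ← hg, inv_smul_smul]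
  have h3 : (g⁻¹ * d * g) • (g⁻¹ • b) = g⁻¹ • b := by
    rw [mul_smul, mul_smul, smul_inv_smul, hdb]
  have h4 := invert_base c hb' hu' h1 h2 h3
  calc u * d * u⁻¹ = g * ((g⁻¹ * u * g) * (g⁻¹ * d * g) * (g⁻¹ * u * g)⁻¹) * g⁻¹ := by group
    _ = g * (g⁻¹ * d * g)⁻¹ * g⁻¹ := by rw [h4]
    _ = d⁻¹ := by group

/-- COMM -/
theorem comm (c : Cfg H M t) {a b : G ⧸ M} (hab : a ≠ b) {d e : G} (hda : d • a = a)
    (hdb : d • b = b) (hea : e • a = a) (heb : e • b = b) : d * e = e * d := by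
  obtain ⟨u, hu, hub⟩ := exists_inv c hab
  have h1 := invert c hab hu hub hda hdb
  have h2 := invert c hab hu hub hea heb
  have h3 := invert c hab hu hub (d := d * e) (by rw [mul_smul, hea, hda]) (by rw [mul_smul, heb, hdb])
  have h4 : (d * e)⁻¹ = d⁻¹ * e⁻¹ := by
    rw [← h3, ← h1, ← h2]; group
  have h5 : (d * e)⁻¹ = (e * d)⁻¹ := by rw [h4]; group
  exact inv_injective h5

/-- ODD -/
theorem odd (c : Cfg H M t) {b : G ⧸ M} (hb : b ≠ pt M) :
    Odd (Nat.card ↥(stabilizer G (pt M) ⊓ stabilizer G b)) := by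
  obtain ⟨u, hu, hub⟩ := exists_inv c (Ne.symm hb)
  have huM : u ∉ M := fun h => hb (by rw [← hub]; exact mem_iff_fix.mp h)
  have h1 := (se c).2.2 u huM
  rw [← hub, MulAction.stabilizer_smul_eq_stabilizer_map_conj, MulAction.stabilizer_quotient]
  exact h1

/-- THREEB -/
theorem three_base (c : Cfg H M t) {b w : G ⧸ M} (hb : b ≠ pt M) (hw : w ≠ pt M)
    (hbw : b ≠ w) {d : G} (hd : d ∈ M) (hdb : d • b = b) (hdw : d • w = w) : d = 1 := by
  by_contra hd1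
  have hdp := mem_iff_fix.mp hd
  obtain ⟨t1, ht1, h1⟩ := exists_inv c (Ne.symm hb)
  obtain ⟨t2, ht2, h2⟩ := exists_inv c (Ne.symm hw)
  obtain ⟨t3, ht3, h3⟩ := exists_inv c hbw
  have i1 := invert c (Ne.symm hb) ht1 h1 hdp hdb
  have i2 := invert c (Ne.symm hw) ht2 h2 hdp hdw
  have i3 := invert c hbw ht3 h3 hdb hdw
  have h3' : t3 • w = b := by
    rw [← h3, ← mul_smul]
    have : t3 * t3 = 1 := by rw [← sq, ← ht3]; exact pow_orderOf_eq_one _
    rw [this, one_smul]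
  have h1' : t1 • b = pt M := by
    rw [← h1, ← mul_smul]
    have : t1 * t1 = 1 := by rw [← sq, ← ht1]; exact pow_orderOf_eq_one _
    rw [this, one_smul]
  have hxM : t1 * t3 * t2 ∈ M := by
    rw [mem_iff_fix, mul_smul, mul_smul, h2, h3', h1']
  have hxd : (t1 * t3 * t2) * d * (t1 * t3 * t2)⁻¹ = d⁻¹ := by
    calc (t1 * t3 * t2) * d * (t1 * t3 * t2)⁻¹
        = t1 * (t3 * (t2 * d * t2⁻¹) * t3⁻¹) * t1⁻¹ := by group
      _ = t1 * (t3 * d * t3⁻¹)⁻¹ * t1⁻¹ := by rw [i2]; group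
      _ = t1 * d * t1⁻¹ := by rw [i3, inv_inv]
      _ = d⁻¹ := i1
  obtain ⟨h, hh, e, he, heb, hx⟩ := factor c hb hxM
  have hcomm : e * d = d * e := comm c (Ne.symm hb) (mem_iff_fix.mp he) heb hdp hdb
  have hhd : h * d * h⁻¹ = d⁻¹ := by
    rw [← hxd, hx]
    calc h * d * h⁻¹ = h * (d * e) * e⁻¹ * h⁻¹ := by group
      _ = h * (e * d) * e⁻¹ * h⁻¹ := by rw [hcomm]
      _ = h * e * d * (h * e)⁻¹ := by group
  have hd2H : d * d ∈ H := by
    have h4 : h * (d * h⁻¹ * d⁻¹) ∈ H := H.mul_mem hh (c.conj_mem hd (H.inv_mem hh))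
    have h5 : h * (d * h⁻¹ * d⁻¹) = (d * d)⁻¹ := by
      calc h * (d * h⁻¹ * d⁻¹) = (h * d * h⁻¹) * d⁻¹ := by group
        _ = d⁻¹ * d⁻¹ := by rw [hhd]
        _ = (d * d)⁻¹ := by group
    rw [h5] at h4
    exact (H.inv_mem_iff).mp h4
  have hd2 : d * d = 1 := by
    by_contra hne
    exact hb (fixH c hd2H hne (by rw [mul_smul, hdb, hdb]))
  have ho : orderOf d = 2 := orderOf_eq_prime (by rw [sq]; exact hd2) hd1
  exact hb (fixH c (c.invol_mem hd ho) hd1 hdb)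

/-- THREE -/
theorem three (c : Cfg H M t) (g : G) (x y z : G ⧸ M) (hxy : x ≠ y) (hyz : y ≠ z)
    (hxz : x ≠ z) (hx : g • x = x) (hy : g • y = y) (hz : g • z = z) : g = 1 := by
  obtain ⟨k, hk⟩ := MulAction.exists_smul_eq G (pt M) x
  have hy' : k⁻¹ • y ≠ pt M := by
    intro h
    apply hxy
    rw [inv_smul_eq_iff] at h
    rw [h, hk]
  have hz' : k⁻¹ • z ≠ pt M := by
    intro h
    apply hxz
    rw [inv_smul_eq_iff] at h
    rw [h, hk]
  have hyz' : k⁻¹ • y ≠ k⁻¹ • z := fun h => hyz (smul_left_cancel _ h)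
  have h2 : k⁻¹ * g * k ∈ M := by
    rw [mem_iff_fix, mul_smul, mul_smul, hk, hx, ← hk, inv_smul_smul]
  have h3 : (k⁻¹ * g * k) • (k⁻¹ • y) = k⁻¹ • y := by
    rw [mul_smul, mul_smul, smul_inv_smul, hy]
  have h4 : (k⁻¹ * g * k) • (k⁻¹ • z) = k⁻¹ • z := by
    rw [mul_smul, mul_smul, smul_inv_smul, hz]
  have h5 := three_base c hy' hz' hyz' h2 h3 h4
  calc g = k * (k⁻¹ * g * k) * k⁻¹ := by group
    _ = 1 := by rw [h5]; group

end Cfsg.Agent.Lib.Helper96.TIC
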