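import Cfsg.Agent.Lib.Helper80.CTINoreg
import Cfsg.Agent.Lib.Helper96.TIC.Perm
import Cfsg.Agent.Lib.Helper96.TIC.Endgame

set_option autoImplicit false

namespace Cfsg.Agent.Lib.Helper96.TIC

open Subgroup MulAction Cfsg.Agent.Lib.Helper80.CTI

variable {G : Type*} [Group G] [Finite G] {t : G} {H M : Subgroup G}

/-- TRANS -/
theorem trans (c : Cfg H M t) {b w : G ⧸ M} (hb : b ≠ pt M) (hw : w ≠ pt M) :
    ∃ h ∈ H, h • w = b :=
  trans2 c (fun _ hx hx1 _ hw => fixH c hx hx1 hw) (fun _ hb _ hx => factor c hb hx)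
    (fun _ _ hb hw hbw _ hd hdb hdw => three_base c hb hw hbw hd hdb hdw) b w hb hw

/-- REG -/
theorem reg (c : Cfg H M t) (x y : G ⧸ M) (hx : x ≠ pt M) (hy : y ≠ pt M) :
    ∃! u : H, (u : G) • x = y := by
  obtain ⟨h, hh, hxy⟩ := trans c hy hx
  refine ⟨⟨h, hh⟩, hxy, ?_⟩
  rintro ⟨k, hk⟩ hkx
  have hkx' : k • x = y := hkx
  apply Subtype.ext
  change k = h
  by_contra hne
  have h1 : h⁻¹ * k ≠ 1 := fun h0 => hne (inv_mul_eq_one.mp h0).symm
  exact hx (fixH c (H.mul_mem (H.inv_mem hh) hk) h1 (by rw [mul_smul, hkx', ← hxy, inv_smul_smul]))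

omit [Finite G] in
theorem exists_ne_pt (c : Cfg H M t) : ∃ b : G ⧸ M, b ≠ pt M := by
  obtain ⟨g, hg⟩ : ∃ g, g ∉ M := by
    by_contra h
    push Not at h
    exact c.neT (eq_top_iff.mpr fun x _ => h x)
  refine ⟨(g : G ⧸ M), fun h => hg ?_⟩
  have h1 : ((1 : G) : G ⧸ M) = (g : G ⧸ M) := h.symm
  rw [QuotientGroup.eq] at h1
  simpa using h1

/-- ZASS -/
theorem zass (c : Cfg H M t) : Cfsg.IsZassenhausGroup G (G ⧸ M) := by
  obtain ⟨b, hb⟩ := exists_ne_pt c
  have htp : t • pt M = pt M := mem_iff_fix.mp (c.le c.t_mem)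
  have htb : t • b ≠ b := fun h => hb (fixH c c.t_mem c.t_ne h)
  have htb' : t • b ≠ pt M := by
    intro h
    apply hb
    rw [← htp] at h
    exact smul_left_cancel _ h
  refine ⟨⟨?_⟩, ?_, three c, ?_, noreg c⟩
  · intro g g' hgg
    have h1 : ∀ w : G ⧸ M, (g'⁻¹ * g) • w = w := by
      intro w
      rw [mul_smul, hgg w, inv_smul_smul]
    have h2 := three c (g'⁻¹ * g) (pt M) b (t • b) (Ne.symm hb) (Ne.symm htb) (Ne.symm htb')
      (h1 _) (h1 _) (h1 _)
    exact (inv_mul_eq_one.mp h2).symm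
  · rw [is_two_pretransitive_iff]
    intro x y z w hxy hzw
    obtain ⟨k, hk⟩ := MulAction.exists_smul_eq G x (pt M)
    obtain ⟨l, hl⟩ := MulAction.exists_smul_eq G z (pt M)
    have hy : k • y ≠ pt M := by
      intro h
      rw [← hk] at h
      exact hxy (smul_left_cancel _ h).symm
    have hw : l • w ≠ pt M := by
      intro h
      rw [← hl] at h
      exact hzw (smul_left_cancel _ h).symm
    obtain ⟨h, hh, hyw⟩ := trans c hw hy
    refine ⟨l⁻¹ * h * k, ?_, ?_⟩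
    · rw [mul_smul, mul_smul, hk, mem_iff_fix.mp (c.le hh), ← hl, inv_smul_smul]
    · rw [mul_smul, mul_smul, hyw, inv_smul_smul]
  · obtain ⟨m, hmM, hmH⟩ : ∃ m ∈ M, m ∉ H := by
      by_contra hcon
      push Not at hcon
      exact c.neH (le_antisymm c.le hcon)
    obtain ⟨h, hh, d, hd, hdb, rfl⟩ := factor c hb hmM
    refine ⟨d, ?_, pt M, b, Ne.symm hb, mem_iff_fix.mp hd, hdb⟩
    rintro rfl
    exact hmH (by rwa [mul_one])

theorem case3_of_cfg (hTI : IsCTI G) (c : Cfg H M t) :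
    ∃ n : ℕ, 2 ≤ n ∧
      Nonempty (G ≃* Matrix.ProjectiveSpecialLinearGroup (Fin 2) (GaloisField 2 n)) := by
  have hH := c.hH
  subst hH
  exact endgame hTI t c.ht M c.hM (zass c) c.cen (reg c) (fun b hb => odd c hb) (conj c)

end Cfsg.Agent.Lib.Helper96.TIC
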